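import Mathlib

/-!
# S3814, package P10-A: the step (A5) as a standalone lemma

`iter_comm`: iterated commutators with a fixed element in a nilpotent group.
`core_a5`: in a `p`-group `O` whose central elements of order dividing `p` all lie in `⟨w⟩`,
either all elements of order dividing `p` lie in `⟨w⟩`, or there are `d` of order `p` outside
`⟨w⟩` and `g` with `g d g⁻¹ = c d`, `1 ≠ c ∈ ⟨w⟩`.
-/

set_option autoImplicit false
set_option linter.style.haveILetI false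

namespace Cfsg.Agent.Lib.Helper80.FP

universe u

/-- iterated commutators with `x` in a nilpotent group: starting from `g0` with `[g0, x] ≠ 1`
one reaches `g` with `[g, x] ≠ 1` commuting with `x`. -/
theorem iter_comm {T : Type*} [Group T] [Group.IsNilpotent T] (x : T) (P : T → Prop)
    (hP : ∀ g, P g → P (g * x * g⁻¹ * x⁻¹)) (g0 : T) (hg0 : P g0)
    (h0 : g0 * x * g0⁻¹ * x⁻¹ ≠ 1) :
    ∃ g, P g ∧ g * x * g⁻¹ * x⁻¹ ≠ 1 ∧ (g * x * g⁻¹ * x⁻¹) * x = x * (g * x * g⁻¹ * x⁻¹) := by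
  obtain ⟨s, hs0, hsS⟩ : ∃ s : ℕ → T, s 0 = g0 ∧ ∀ n, s (n + 1) = s n * x * (s n)⁻¹ * x⁻¹ :=
    ⟨fun n => Nat.rec g0 (fun _ g => g * x * g⁻¹ * x⁻¹) n, rfl, fun _ => rfl⟩
  have hPs : ∀ n, P (s n) := by
    intro n
    induction n with
    | zero => rw [hs0]; exact hg0
    | succ n ih => rw [hsS]; exact hP _ ih
  have hlcs : ∀ n, s n ∈ (⊤ : Subgroup T).lowerCentralSeries n := by
    intro n
    induction n with
    | zero => rw [Subgroup.lowerCentralSeries_zero]; exact Subgroup.mem_top _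
    | succ n ih =>
      rw [Subgroup.mem_lowerCentralSeries_succ_iff]
      exact Subgroup.subset_closure ⟨s n, ih, x, Subgroup.mem_top _, (hsS n).symm⟩
  have hex : ∃ n, s n = 1 := by
    refine ⟨Group.nilpotencyClass T, ?_⟩
    have h1 := hlcs (Group.nilpotencyClass T)
    rw [Subgroup.lowerCentralSeries_nilpotencyClass, Subgroup.mem_bot] at h1
    exact h1
  classical
  obtain ⟨n, hn⟩ : ∃ n, n = Nat.find hex := ⟨_, rfl⟩
  have hsn : s n = 1 := by rw [hn]; exact Nat.find_spec hex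
  have hmin : ∀ m, m < n → s m ≠ 1 := by
    intro m hm
    rw [hn] at hm
    exact Nat.find_min hex hm
  have hn0 : n ≠ 0 := by
    intro h
    rw [h, hs0] at hsn
    apply h0
    rw [hsn]; group
  have hn1 : n ≠ 1 := by
    intro h
    rw [h, hsS, hs0] at hsn
    exact h0 hsn
  obtain ⟨m, rfl⟩ : ∃ m, n = m + 2 := ⟨n - 2, by omega⟩
  refine ⟨s m, hPs m, ?_, ?_⟩
  · rw [← hsS]
    exact hmin (m + 1) (by omega)
  · have h1 : s (m + 1) * x * (s (m + 1))⁻¹ * x⁻¹ = 1 := by rw [← hsS]; exact hsn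
    rw [← hsS]
    calc s (m + 1) * x = (s (m + 1) * x * (s (m + 1))⁻¹ * x⁻¹) * (x * s (m + 1)) := by group
      _ = x * s (m + 1) := by rw [h1, one_mul]

/-- step (A5) -/
theorem core_a5 {Λ : Type u} [Group Λ] [Finite Λ] (p : ℕ) [hp : Fact p.Prime] (O : Subgroup Λ)
    (hO : IsPGroup p O) (w : Λ) (hwc : ∀ g ∈ O, g * w = w * g)
    (hZ : ∀ z ∈ O, (∀ g ∈ O, g * z = z * g) → z ^ p = 1 → z ∈ Subgroup.zpowers w)
    (hConj : ∀ d ∈ O, ∀ g ∈ O, ∀ c ∈ Subgroup.zpowers w, orderOf d = p →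
      d ∉ Subgroup.zpowers w → c ≠ 1 → g * d * g⁻¹ = c * d → False) :
    ∀ d ∈ O, d ^ p = 1 → d ∈ Subgroup.zpowers w := by
  by_contra hcon
  push Not at hcon
  obtain ⟨d0, hd0O, hd0p, hd0w⟩ := hcon
  obtain ⟨S, hS⟩ : ∃ S : Set Λ, S = {d | d ∈ O ∧ d ^ p = 1 ∧ d ∉ Subgroup.zpowers w} :=
    ⟨_, rfl⟩
  haveI : Nonempty ↥S := ⟨⟨d0, by rw [hS]; exact ⟨hd0O, hd0p, hd0w⟩⟩⟩
  obtain ⟨⟨d, hdS⟩, hmax⟩ := Finite.exists_max
    (fun d : ↥S => Nat.card ↥(O ⊓ Subgroup.centralizer ({(d : Λ)} : Set Λ)))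
  rw [hS] at hdS
  obtain ⟨hdO, hdp, hdw⟩ := hdS
  have hmax' : ∀ c : Λ, c ∈ O → c ^ p = 1 → c ∉ Subgroup.zpowers w →
      Nat.card ↥(O ⊓ Subgroup.centralizer ({c} : Set Λ))
        ≤ Nat.card ↥(O ⊓ Subgroup.centralizer ({d} : Set Λ)) := by
    intro c hc1 hc2 hc3
    exact hmax ⟨c, by rw [hS]; exact ⟨hc1, hc2, hc3⟩⟩
  obtain ⟨C, hC⟩ : ∃ C : Subgroup Λ, C = O ⊓ Subgroup.centralizer ({d} : Set Λ) := ⟨_, rfl⟩
  have hCmem : ∀ c, c ∈ C ↔ c ∈ O ∧ c * d = d * c := by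
    intro c
    rw [hC, Subgroup.mem_inf, Subgroup.mem_centralizer_singleton_iff]
  have hCO : C ≤ O := fun c hc => ((hCmem c).1 hc).1
  have hdC : d ∈ C := (hCmem d).2 ⟨hdO, rfl⟩
  have hCne : ¬ O ≤ C := by
    intro hle
    apply hdw
    apply hZ d hdO _ hdp
    intro g hg
    exact ((hCmem g).1 (hle hg)).2
  -- normalizer condition in the `p`-group `O`
  haveI : Group.IsNilpotent ↥O := hO.isNilpotent
  have hlt : C.subgroupOf O < ⊤ := by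
    rw [lt_top_iff_ne_top]
    intro h
    exact hCne (Subgroup.subgroupOf_eq_top.1 h)
  have hnc := Group.normalizerCondition_of_isNilpotent (G := ↥O) (C.subgroupOf O) hlt
  obtain ⟨g', hg'n, hg'C⟩ := SetLike.exists_of_lt hnc
  obtain ⟨g, hgO⟩ := g'
  have hgC : g ∉ C := fun h => hg'C (Subgroup.mem_subgroupOf.2 h)
  have hgn : ∀ c, c ∈ C → g * c * g⁻¹ ∈ C := by
    intro c hc
    have h1 := (Subgroup.mem_normalizer_iff.1 hg'n ⟨c, hCO hc⟩).1 (Subgroup.mem_subgroupOf.2 hc)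
    exact Subgroup.mem_subgroupOf.1 h1
  have hgn' : ∀ c, c ∈ C → g⁻¹ * c * g ∈ C := by
    intro c hc
    have hmemO : g⁻¹ * c * g ∈ O := O.mul_mem (O.mul_mem (O.inv_mem hgO) (hCO hc)) hgO
    have h1 := (Subgroup.mem_normalizer_iff.1 hg'n ⟨g⁻¹ * c * g, hmemO⟩).2 (by
      rw [Subgroup.mem_subgroupOf]
      have h2 : (((⟨g, hgO⟩ : ↥O) * ⟨g⁻¹ * c * g, hmemO⟩ * (⟨g, hgO⟩ : ↥O)⁻¹ : ↥O) : Λ) = c := by
        show g * (g⁻¹ * c * g) * g⁻¹ = c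
        group
      rw [h2]
      exact hc)
    exact Subgroup.mem_subgroupOf.1 h1
  -- the predicate
  obtain ⟨P, hPdef⟩ : ∃ P : ↥O → Prop, P = fun f : ↥O =>
      (f : Λ) ∈ C ∧ (∀ c ∈ C, (f : Λ) * c = c * (f : Λ)) ∧ (f : Λ) ^ p = 1 := ⟨_, rfl⟩
  have hPstep : ∀ f : ↥O, P f → P (f * ⟨g, hgO⟩ * f⁻¹ * (⟨g, hgO⟩ : ↥O)⁻¹) := by
    intro f hf
    rw [hPdef] at hf ⊢
    obtain ⟨hfC, hfc, hfp⟩ := hf
    obtain ⟨a, ha⟩ : ∃ a : Λ, a = g * (f : Λ)⁻¹ * g⁻¹ := ⟨_, rfl⟩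
    have haC : a ∈ C := by rw [ha]; exact hgn _ (C.inv_mem hfC)
    have hfinv : ∀ c ∈ C, (f : Λ)⁻¹ * c = c * (f : Λ)⁻¹ := by
      intro c hc
      exact ((show Commute (f : Λ) c from hfc c hc).inv_left).eq
    have hac : ∀ c ∈ C, a * c = c * a := by
      intro c hc
      have h1 := hfinv _ (hgn' c hc)
      calc a * c = g * ((f : Λ)⁻¹ * (g⁻¹ * c * g)) * g⁻¹ := by rw [ha]; group
        _ = g * ((g⁻¹ * c * g) * (f : Λ)⁻¹) * g⁻¹ := by rw [h1]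
        _ = c * a := by rw [ha]; group
    have hap : a ^ p = 1 := by
      rw [ha, conj_pow, inv_pow, hfp, inv_one, mul_one, mul_inv_cancel]
    have hval : (((f * ⟨g, hgO⟩ * f⁻¹ * (⟨g, hgO⟩ : ↥O)⁻¹ : ↥O)) : Λ) = (f : Λ) * a := by
      show (f : Λ) * g * (f : Λ)⁻¹ * g⁻¹ = (f : Λ) * a
      rw [ha]; group
    rw [hval]
    refine ⟨C.mul_mem hfC haC, ?_, ?_⟩
    · intro c hc
      calc (f : Λ) * a * c = (f : Λ) * (a * c) := by rw [mul_assoc]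
        _ = ((f : Λ) * c) * a := by rw [hac c hc, mul_assoc]
        _ = c * ((f : Λ) * a) := by rw [hfc c hc, mul_assoc]
    · have hcm : Commute (f : Λ) a := hfc a haC
      rw [hcm.mul_pow, hfp, hap, one_mul]
  have hPd : P ⟨d, hdO⟩ := by
    rw [hPdef]
    refine ⟨hdC, ?_, hdp⟩
    intro c hc
    exact ((hCmem c).1 hc).2.symm
  have hd0 : (⟨d, hdO⟩ : ↥O) * ⟨g, hgO⟩ * (⟨d, hdO⟩ : ↥O)⁻¹ * (⟨g, hgO⟩ : ↥O)⁻¹ ≠ 1 := by
    intro h
    have h1 : d * g * d⁻¹ * g⁻¹ = 1 := congrArg Subtype.val h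
    apply hgC
    rw [hCmem]
    refine ⟨hgO, ?_⟩
    calc g * d = (d * g * d⁻¹ * g⁻¹)⁻¹ * (d * g) := by group
      _ = d * g := by rw [h1, inv_one, one_mul]
  obtain ⟨f, hPf, hc1, hcg⟩ := iter_comm (⟨g, hgO⟩ : ↥O) P hPstep ⟨d, hdO⟩ hPd hd0
  have hPc := hPstep f hPf
  obtain ⟨c, hcdef⟩ : ∃ c : Λ, c = (f : Λ) * g * (f : Λ)⁻¹ * g⁻¹ := ⟨_, rfl⟩
  have hcval : (((f * ⟨g, hgO⟩ * f⁻¹ * (⟨g, hgO⟩ : ↥O)⁻¹ : ↥O)) : Λ) = c := by
    rw [hcdef]; rfl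
  rw [hPdef] at hPc hPf
  rw [hcval] at hPc
  obtain ⟨hcC, hcc, hcp⟩ := hPc
  obtain ⟨hfC, hfc, hfp⟩ := hPf
  have hcne : c ≠ 1 := by
    intro h
    apply hc1
    apply Subtype.ext
    rw [hcval, h]
    rfl
  have hcg' : c * g = g * c := by
    have h1 : ((f : Λ) * g * (f : Λ)⁻¹ * g⁻¹) * g = g * ((f : Λ) * g * (f : Λ)⁻¹ * g⁻¹) :=
      congrArg Subtype.val hcg
    rw [← hcdef] at h1
    exact h1
  have hcO : c ∈ O := hCO hcC
  -- `c ∈ ⟨w⟩` by maximality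
  have hcw : c ∈ Subgroup.zpowers w := by
    by_contra hcw
    have h1 := hmax' c hcO hcp hcw
    rw [← hC] at h1
    have hle : C ≤ O ⊓ Subgroup.centralizer ({c} : Set Λ) := by
      intro c' hc'
      rw [Subgroup.mem_inf, Subgroup.mem_centralizer_singleton_iff]
      exact ⟨hCO hc', (hcc c' hc').symm⟩
    have heq := Subgroup.eq_of_le_of_card_ge hle h1
    apply hgC
    rw [heq, Subgroup.mem_inf, Subgroup.mem_centralizer_singleton_iff]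
    exact ⟨hgO, hcg'.symm⟩
  have hfO : (f : Λ) ∈ O := f.2
  have hfw : (f : Λ) ∉ Subgroup.zpowers w := by
    intro hmem
    obtain ⟨k, hk⟩ := Subgroup.mem_zpowers_iff.1 hmem
    apply hcne
    have h1 : Commute g (f : Λ) := by
      rw [← hk]
      exact (show Commute g w from hwc g hgO).zpow_right k
    rw [hcdef]
    calc (f : Λ) * g * (f : Λ)⁻¹ * g⁻¹ = (f : Λ) * (g * (f : Λ)⁻¹) * g⁻¹ := by group
      _ = (f : Λ) * ((f : Λ)⁻¹ * g) * g⁻¹ := by rw [(h1.inv_right).eq]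
      _ = 1 := by group
  have hf1 : (f : Λ) ≠ 1 := fun h => hfw (h ▸ Subgroup.one_mem _)
  have hof : orderOf (f : Λ) = p := orderOf_eq_prime hfp hf1
  refine hConj (f : Λ) hfO g hgO c⁻¹ (Subgroup.inv_mem _ hcw) hof hfw (inv_ne_one.2 hcne) ?_
  rw [hcdef]
  group

end Cfsg.Agent.Lib.Helper80.FP
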