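import Mathlib
import Cfsg.Agent.Lib.Helper80.FP.Layer
import Cfsg.Agent.Lib.Helper37.FP.CoreB

/-!
# S3814, package P10 (`PkgNF`): assembly modulo the abstract core A
-/

set_option autoImplicit false

namespace Cfsg.Agent.Lib.Helper80.FP

universe u

/-- `PkgNF` from Core A alone (Core B: helper37, the concrete layer: `pkgLayer`) -/
theorem pkgNF_of_coreA (hA : PkgCoreA.{u}) : Cfsg.Agent.Lib.Helper46.FP.PkgNF.{u} :=
  pkgNF_of hA Cfsg.Agent.Lib.Helper37.FP.pkgCoreB pkgLayer

end Cfsg.Agent.Lib.Helper80.FP
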