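import Mathlib
import Cfsg.Agent.Lib.Helper80.FP.PkgNFOf
import Cfsg.Agent.Lib.Helper22.FP.CoreA

/-!
# S3814, package P10: `PkgNF` (the non-faithful case)

Assembly: concrete layer (`pkgLayer`, helper80), abstract core A (helper22), abstract core B
(helper37).
-/

set_option autoImplicit false

namespace Cfsg.Agent.Lib.Helper80.FP

universe u

/-- package P10 of the S3814 team project -/
theorem pkgNF : Cfsg.Agent.Lib.Helper46.FP.PkgNF.{u} :=
  pkgNF_of_coreA Cfsg.Agent.Lib.Helper22.FP.pkgCoreA

end Cfsg.Agent.Lib.Helper80.FP
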